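import Groth.Agent.CohFinite.PushLinear
import Groth.Agent.CohQC.Push
import Groth.Prelude.Def_Canon

/-!
Dualizing pairs and finite direct images.
-/

set_option autoImplicit false
set_option backward.isDefEq.respectTransparency false
set_option linter.style.haveILetI false

universe u

open CategoryTheory Category Limits Opposite TopologicalSpace AlgebraicGeometry
open Groth.Agent.SiteCoh Groth.Agent.CohFinite

noncomputable section

namespace Groth.Agent.DualPush

/-- Global cohomology of an acyclic direct image, naturally in the sheaf. -/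
theorem h_push_natural' {X Y : TopCat.{u}} (f : X ⟶ Y) (n : ℕ) :
    ∃ a : ∀ F : CohTop.Ab X, DirectAcyclic (Opens.grothendieckTopology Y) (Opens.map f) F →
      (CohTop.H F n ≃+ CohTop.H ((CohTop.push f).obj F) n),
      ∀ (F G : CohTop.Ab X) (hF : DirectAcyclic (Opens.grothendieckTopology Y) (Opens.map f) F)
        (hG : DirectAcyclic (Opens.grothendieckTopology Y) (Opens.map f) G) (φ : F ⟶ G)
        (x : CohTop.H F n),
        a G hG (Sheaf.H.map φ n x) = Sheaf.H.map ((CohTop.push f).map φ) n (a F hF x) := by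
  obtain ⟨a, ha⟩ := hu_compare_class_natural (CohTop.push f) (U := (Opens.map f).obj ⊤) (U' := (⊤ : Opens Y))
    (fun G => AddEquiv.refl _) (fun _ _ => rfl)
    (DirectAcyclic (Opens.grothendieckTopology Y) (Opens.map f))
    (fun G hG => directAcyclic_shortExact (Opens.map f) hG)
    (fun I hI q => @push_injective_acyclic _ _ f I hI ⊤ q)
    (fun G hG => directAcyclic_quotient (Opens.map f) hG) n
  let hT : IsTerminal ((Opens.map f).obj (⊤ : Opens Y)) := isTerminalTop
  refine ⟨fun F hF => ((huTerminalEquiv (Opens.grothendieckTopology X) hT F n).trans (a F hF)).trans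
    (huTerminalEquiv (Opens.grothendieckTopology Y) isTerminalTop ((CohTop.push f).obj F) n).symm,
    fun F G hF hG φ x => ?_⟩
  apply (huTerminalEquiv (Opens.grothendieckTopology Y) isTerminalTop ((CohTop.push f).obj G) n).injective
  refine Eq.trans ?_ (ProjCech.huTerminalEquiv_natural (Opens.grothendieckTopology Y) isTerminalTop
    ((CohTop.push f).map φ) n _).symm
  simp only [AddEquiv.trans_apply, AddEquiv.apply_symm_apply]
  refine (congrArg (a G hG) (ProjCech.huTerminalEquiv_natural (Opens.grothendieckTopology X) hT φ n x)).trans ?_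
  exact ha F G hF hG φ _

variable {X Z : Scheme.{u}} (A : Type u) [CommRing A]
  [X.Over (Spec (CommRingCat.of A))] [Z.Over (Spec (CommRingCat.of A))]

/-- `H^n(X, F) = H^n(Z, π_* F)` naturally and linearly, for affine `π` -/
theorem exists_pushEquiv (π : X ⟶ Z) [IsAffineHom π]
    (hπ : π ≫ (Z ↘ Spec (CommRingCat.of A)) = X ↘ Spec (CommRingCat.of A)) (n : ℕ) :
    ∃ e : ∀ F : X.Modules, Coh.IsQCoh F → (Coh.HH X F n ≃ₗ[A] Coh.HH Z ((Coh.push π).obj F) n),
      ∀ (F G : X.Modules) (hF : Coh.IsQCoh F) (hG : Coh.IsQCoh G) (φ : F ⟶ G) (x : Coh.HH X F n),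
        e G hG (Sheaf.H.map ((SheafOfModules.toSheaf X.ringCatSheaf).map φ) n x) =
          Sheaf.H.map ((SheafOfModules.toSheaf Z.ringCatSheaf).map ((Coh.push π).map φ)) n (e F hF x) := by
  obtain ⟨a, ha⟩ := h_push_natural' π.base n
  have hac : ∀ F : X.Modules, Coh.IsQCoh F →
      DirectAcyclic (Opens.grothendieckTopology Z) (Opens.map π.base) (Coh.toAb F) := fun F hF =>
    haveI : F.IsQuasicoherent := hF
    CohQC.directAcyclic_of_isAffineHom π F
  refine ⟨fun F hF => { a (Coh.toAb F) (hac F hF) with map_smul' := fun r x => ?_ }, fun F G hF hG φ x => ?_⟩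
  · let g := Coh.toGlobal (Z ↘ Spec (CommRingCat.of A)) r
    have hg : Coh.toGlobal (X ↘ Spec (CommRingCat.of A)) r = π.appTop g := by
      rw [← hπ]
      simp only [Coh.toGlobal, Scheme.Hom.comp_appTop]
      rfl
    change a (Coh.toAb F) _ (Sheaf.H.map (Coh.smulAb F (Coh.toGlobal (X ↘ Spec (CommRingCat.of A)) r)) n x) =
      Sheaf.H.map (Coh.smulAb ((Scheme.Modules.pushforward π).obj F) g) n (a (Coh.toAb F) _ x)
    rw [hg]
    exact (ha _ _ _ (hac F hF) _ x).trans (congrArg (fun s => Sheaf.H.map s n (a (Coh.toAb F) _ x)) (smulAb_push π F g))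
  · exact ha _ _ (hac F hF) (hac G hG) _ x

/-- **dualizing pairs along a finite morphism** -/
theorem exists_isRDual (r : ℕ) (π : X ⟶ Z) [IsAffineHom π]
    (hπ : π ≫ (Z ↘ Spec (CommRingCat.of A)) = X ↘ Spec (CommRingCat.of A))
    {ωZ : Z.Modules} {trZ : Coh.HH Z ωZ r →ₗ[A] A} (hZ : Canon.IsRDualOver A Z r ωZ trZ)
    (ωX : X.Modules) (hωX : Coh.IsQCoh ωX) (τ : (Coh.push π).obj ωX ⟶ ωZ)
    (huniv : ∀ F : X.Modules, Coh.IsQCoh F →
      Function.Bijective (fun φ : F ⟶ ωX => (Coh.push π).map φ ≫ τ))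
    (hpush : ∀ F : X.Modules, Coh.IsQCoh F → Coh.IsQCoh ((Coh.push π).obj F)) :
    ∃ trX : Coh.HH X ωX r →ₗ[A] A, Canon.IsRDualOver A X r ωX trX := by
  obtain ⟨e, he⟩ := exists_pushEquiv A π hπ r
  refine ⟨trZ ∘ₗ (Canon.HHlin A τ r) ∘ₗ (e ωX hωX).toLinearMap, hωX, fun F hF => ?_⟩
  have key : Canon.dualityMap A X r ωX (trZ ∘ₗ (Canon.HHlin A τ r) ∘ₗ (e ωX hωX).toLinearMap) F =
      (fun L : Coh.HH Z ((Coh.push π).obj F) r →ₗ[A] A => L ∘ₗ (e F hF).toLinearMap) ∘
        Canon.dualityMap A Z r ωZ trZ ((Coh.push π).obj F) ∘ fun φ => (Coh.push π).map φ ≫ τ := by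
    funext φ
    refine LinearMap.ext fun x => congrArg trZ ?_
    show Sheaf.H.map _ r (e ωX hωX (Sheaf.H.map _ r x)) = Sheaf.H.map _ r (e F hF x)
    rw [he F ωX hF hωX, ← Sheaf.H.map_comp_apply, ← Functor.map_comp]
  rw [key]
  refine Function.Bijective.comp ?_ ((hZ.2 _ (hpush F hF)).comp (huniv F hF))
  exact ⟨fun L L' h => LinearMap.ext fun y => by
    obtain ⟨x, rfl⟩ := (e F hF).surjective y
    exact LinearMap.congr_fun h x,
    fun M => ⟨M ∘ₗ (e F hF).symm.toLinearMap, LinearMap.ext fun x => congrArg M ((e F hF).symm_apply_apply x)⟩⟩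

end Groth.Agent.DualPush
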